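import Mathlib
import Cfsg.Agent.SAn.Defs
import Cfsg.Agent.SAn.Tools
import Cfsg.Agent.SAn.CdB
import Cfsg.Prelude.Def_Spor_J2
import Cfsg.Agent.Blk.ZStar
import Cfsg.Agent.Pat.QA
import Cfsg.Agent.S3102
import Cfsg.Agent.S1743
import Cfsg.Agent.S1776
import Cfsg.Agent.S3100

/-! Degree five, case II, P fused to E: J2 (PLAN: J2). -/

set_option autoImplicit false
set_option linter.unusedSectionVars false

namespace Cfsg.Agent.SAn

open Cfsg Cfsg.Agent.GT Cfsg.Agent.Loc.Mss Subgroup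
open scoped commutatorElement

variable {G : Type*} [Group G] [Finite G] {A C E F M P R S T V X : Subgroup G} {D : Set G}
  {a b c e f g q r s u v x y z ρ : G}

theorem j2_half {H K : Subgroup G} (h : ∀ x ∈ K, ∀ y ∈ K, x ∉ H → y ∉ H → x * y ∈ H) :
    Nat.card K ≤ 2 * Nat.card ↥(K ⊓ H) := by
  have h1 : H.relIndex K ∣ 2 := relIndex_dvd_two_iff.2 (by
    by_cases h2 : ∀ b ∈ K, b ∈ H
    · exact ⟨1, one_mem _, fun b hb => Or.inr (h2 b hb)⟩
    · push Not at h2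
      obtain ⟨a, ha, ha'⟩ := h2
      exact ⟨a, ha, fun b hb => (em (b ∈ H)).elim Or.inr fun hb' => Or.inl (h b hb a ha hb' ha')⟩)
  have h3 := (H.subgroupOf K).card_mul_index
  have h4 : Nat.card (H.subgroupOf K) = Nat.card ↥(K ⊓ H) := by
    rw [← inf_subgroupOf_left]
    exact Nat.card_congr (subgroupOfEquivOfLe inf_le_left).toEquiv
  rw [← h3, h4, mul_comm]
  exact Nat.mul_le_mul_right _ (Nat.le_of_dvd two_pos h1)

theorem j2_sq (h : ∀ s ∈ F, s * s = 1) (g : G) : ∀ s ∈ cj(g, F), s * s = 1 := fun s hs => by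
  have := h _ (mem_cj.1 hs)
  calc s * s = g * (g⁻¹ * s * g * (g⁻¹ * s * g)) * g⁻¹ := by group
    _ = 1 := by rw [this]; group

theorem j2_ab (h : ∀ s ∈ F, s * s = 1) : F ≤ 𝐂[F] := fun a ha => mem_cent.2 fun b hb => by
  have e := h _ (mul_mem hb ha)
  calc b * a = (b * a)⁻¹ := (inv_eq_of_mul_eq_one_right e).symm
    _ = a * b := by
      rw [mul_inv_rev, inv_eq_of_mul_eq_one_right (h a ha), inv_eq_of_mul_eq_one_right (h b hb)]

namespace Cd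

variable (h : Cd X D V R P ρ x) (hP : ∀ q ∈ P, q * q = 1)
include h

theorem j2_ES : V ⊔ R ≤ P ⊔ R := sup_le_sup_right h.VP R

theorem j2_ne : V ⊔ R ≠ P := fun e => by
  obtain ⟨r, hr, -, -, r1, -⟩ := h.kR.exists
  exact r1 (mem_bot.1 (h.PR ▸ ⟨e ▸ mem_sup_right hr, hr⟩))

include hP

/-- The normalizer of `S₁` permutes `E` and `P`. -/
theorem j2_dich (hg : g ∈ 𝐍[P ⊔ R]) : g ∈ 𝐍[V ⊔ R] ∨ (cj(g, V ⊔ R) = P ∧ cj(g, P) = V ⊔ R) := by
  have h1 := h.e16_el hP ((cj_le_of_norm h.j2_ES hg).trans le_sup_left)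
    ((card_cj _ g).trans h.cardE) (j2_sq (fun _ => h.sqE) g)
  have h2 := h.e16_el hP ((cj_le_of_norm le_sup_left hg).trans le_sup_left)
    ((card_cj _ g).trans h.cP) (j2_sq hP g)
  rcases h1 with h1 | h1
  · exact Or.inl (cj_eq_iff.1 h1)
  rcases h2 with h2 | h2
  · exact Or.inr ⟨h1, h2⟩
  · exact absurd (cj_eq_cj.1 (h1.trans h2.symm)) h.j2_ne

theorem j2_mul (hg : g ∈ 𝐍[P ⊔ R]) (hy : y ∈ 𝐍[P ⊔ R]) (g1 : g ∉ 𝐍[V ⊔ R]) (y1 : y ∉ 𝐍[V ⊔ R]) :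
    g * y ∈ 𝐍[V ⊔ R] := by
  rw [← cj_eq_iff, ← cj_cj, ((h.j2_dich hP hy).resolve_left y1).1,
    ((h.j2_dich hP hg).resolve_left g1).2]

theorem j2_nV : 𝐍[P ⊔ R] ≤ 𝐍[V] := fun g hg => by
  rcases h.j2_dich hP hg with h1 | ⟨h1, h2⟩
  · exact h.nV h1
  · rw [← cj_eq_iff]
    nth_rw 1 [← h.PE]
    rw [cj_inf, h1, h2, inf_comm, h.PE]

/-- An elementary subgroup of `S₁` normalized by an element swapping `E` and `P` lies in `V`. -/
theorem j2_le (hF : F ≤ P ⊔ R) (h2 : ∀ s ∈ F, s * s = 1) (hg : g ∈ 𝐍[P ⊔ R]) (g1 : g ∉ 𝐍[V ⊔ R])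
    (gF : g ∈ 𝐍[F]) : F ≤ V := by
  obtain ⟨e1, e2⟩ := (h.j2_dich hP hg).resolve_left g1
  rw [← h.PE]
  rcases h.sub_el hP hF h2 with k | k
  · exact le_inf (by rw [← cj_of_norm gF, ← e1]; exact cj_mono g k) k
  · exact le_inf k (by rw [← cj_of_norm gF, ← e2]; exact cj_mono g k)

omit hP in
theorem j2_inf (hT : IsPGroup 2 T) (hS : P ⊔ R ⊔ zpowers x ≤ T) (hy : y ∈ T) (y1 : y ∈ 𝐍[V ⊔ R]) :
    y ∈ P ⊔ R ⊔ zpowers x :=
  h.sylS.ge_of_le (P := T ⊓ 𝐍[V ⊔ R]) (hT.to_inf_left) (le_inf hS h.sylS.le) inf_le_right ⟨hy, y1⟩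

theorem j2_e16 (hT : IsPGroup 2 T) (hS : P ⊔ R ⊔ zpowers x ≤ T) (hN : T ≤ 𝐍[P ⊔ R]) (hF : F ≤ T)
    (hc : Nat.card F = 16) (h2 : ∀ s ∈ F, s * s = 1) : F ≤ P ⊔ R := by
  by_cases h1 : F ≤ 𝐍[V ⊔ R]
  · exact h.ab16 (fun y hy => h.j2_inf hT hS (hF hy) (h1 hy)) (j2_ab h2) hc h2
  exfalso
  obtain ⟨g, hg, g1⟩ := SetLike.not_le_iff_exists.1 h1
  have k1 : F ⊓ (P ⊔ R) ≤ V := h.j2_le hP inf_le_right (fun s hs => h2 s hs.1) (hN (hF hg)) g1
    (norm_inf (X := F) le_normalizer (hF.trans hN) hg)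
  have c1 := j2_half (K := F) (H := 𝐍[V ⊔ R]) fun a ha b hb =>
    h.j2_mul hP (hN (hF ha)) (hN (hF hb))
  have c2 := j2_half (K := F ⊓ 𝐍[V ⊔ R]) (H := P ⊔ R) fun a ha b hb a1 b1 => by
    have ea := (h.memS.1 (h.j2_inf hT hS (hF ha.1) ha.2)).resolve_left a1
    have eb := (h.memS.1 (inv_mem (h.j2_inf hT hS (hF hb.1) hb.2))).resolve_left
      (fun e => b1 (inv_mem_iff.1 e))
    simpa [mul_assoc] using mul_mem ea (inv_mem eb)
  have c3 := card_le_of_le k1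
  have c4 := card_le_of_le (inf_le_inf_right (P ⊔ R) (inf_le_left : F ⊓ 𝐍[V ⊔ R] ≤ F))
  have c5 := h.kV.1
  have k2 : F ⊓ (P ⊔ R) = V := eq_of_le_of_card_ge k1 (by omega)
  have k3 : ¬ F ⊓ 𝐍[V ⊔ R] ≤ P ⊔ R := fun e => by
    have := card_le_of_le (le_inf inf_le_left e)
    omega
  obtain ⟨y, hy, y1⟩ := SetLike.not_le_iff_exists.1 k3
  exact (h.out (h.j2_inf hT hS (hF hy.1) hy.2) y1).2.1
    (cent_anti (k2.ge.trans inf_le_left) (j2_ab h2 hy.1))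

theorem j2_e8 (hT : IsPGroup 2 T) (hS : P ⊔ R ⊔ zpowers x ≤ T) (hN : T ≤ 𝐍[P ⊔ R]) (hg : g ∈ T)
    (g1 : g ∉ 𝐍[V ⊔ R]) (hF : F ≤ T) (hn : T ≤ 𝐍[F]) (h2 : ∀ s ∈ F, s * s = 1) :
    Nat.card F ≠ 8 := fun hc => by
  have k1 : F ⊓ (P ⊔ R) ≤ V := h.j2_le hP inf_le_right (fun s hs => h2 s hs.1) (hN hg) g1
    (norm_inf hn hN hg)
  have k3 : ¬ F ≤ P ⊔ R := fun e => by
    have := card_le_of_le ((le_inf le_rfl e).trans k1)
    have := h.kV.1
    omega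
  obtain ⟨y, hy, y1⟩ := SetLike.not_le_iff_exists.1 k3
  have k : ∀ r ∈ R, y * r * y⁻¹ * r⁻¹ ∈ V := fun r hr => k1 ⟨by
      have := mul_mem hy (conj_mem_of_norm (hn (hS (mem_sup_left (mem_sup_right hr)))) (inv_mem hy))
      simpa [mul_assoc] using this,
    (P ⊔ R).mul_mem (conj_mem_of_norm (hN (hF hy)) (mem_sup_right hr))
      ((P ⊔ R).inv_mem (mem_sup_right hr))⟩
  rcases h.j2_dich hP (hN (hF hy)) with h1 | ⟨h1, -⟩
  · obtain ⟨r, hr, e⟩ := (h.out (h.j2_inf hT hS (hF hy) h1) y1).2.2.1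
    exact e (k r hr)
  · obtain ⟨r, hr, -, -, r1, -⟩ := h.kR.exists
    have e1 : y * r * y⁻¹ ∈ P := h1 ▸ conj_mem_cj (mem_sup_right hr)
    have e2 : r ∈ P := inv_mem_iff.1 ((mul_mem_cancel_left e1).1 (h.VP (k r hr)))
    exact r1 (mem_bot.1 (h.PR ▸ ⟨e2, hr⟩))

/-- An element of `P` in `D` gives an element swapping `E` and `P`. -/
theorem j2_swap (hq : q ∈ P) (hD : q ∈ D) : X = ⊤ ∧ ∃ g ∈ 𝐍[P ⊔ R], g ∉ 𝐍[V ⊔ R] := by
  have pP : IsPGroup 2 P := IsPGroup.of_card (n := 4) h.cP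
  obtain ⟨g, g1, g2⟩ := h.syl q hD P pP fun y hy => (mem_cent.1 (h.ab hq) y hy)
  have e : cj(g, P) = V ⊔ R := by
    rcases h.e16_el hP (g2.trans (sup_le_sup_right h.j2_ES _)) ((card_cj _ g).trans h.cP)
      (j2_sq hP g) with e | e
    · exact e
    · have : g * q * g⁻¹ = 1 := mem_bot.1 (h.PR ▸ ⟨e ▸ conj_mem_cj hq, g1⟩)
      exact absurd (by simpa [mul_inv_eq_one] using this) (h.iv q hD).2
  have := h.nX
  refine ⟨h.top (le_sup_right.trans (e.ge.trans ((cj_mono g h.PX).trans (cj_normal X g).le))), g, ?_,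
    fun k => h.j2_ne (e.symm.trans (cj_of_norm (h.nE k)))⟩
  have gV : g ∈ 𝐍[V] := mem_norm_of_cj_le (cj_le_iff.2 fun v hv => by
    by_contra hn
    have := h.cjD _ ((h.DE _ (e ▸ conj_mem_cj (h.VP hv))).2 hn) g⁻¹
    exact (h.DE v (mem_sup_left hv)).1 (by simpa [mul_assoc] using this) hv)
  have k1 : cj(g, P ⊔ R) ≤ 𝐍[V ⊔ R] := by
    rw [← e, ← cj_norm]; exact cj_mono g (sup_le le_normalizer h.RP)
  have k2 : cj(g, P ⊔ R) ≤ 𝐂[V] := by
    rw [← cj_of_norm gV, ← cj_cent]; exact cj_mono g h.S1V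
  exact mem_norm_of_cj_le (h.sylC.le_of_norm' (pg_cj h.sylC.pg g) (le_inf k1 k2) (k1.trans h.nS1))

end Cd

theorem Cd.j2 (h : Cd X D V R P ρ x) (hP : ∀ q ∈ P, q * q = 1) (hq : q ∈ P) (hD : q ∈ D) :
    Cfsg.Spor.IsoJ2 X := by
  obtain ⟨rfl, g₀, g1, g2⟩ := h.j2_swap hP hq hD
  have hs := h.sX
  have : IsSimpleGroup G := topEquiv.symm.isSimpleGroup
  have hG : ¬ IsMulCommutative G := fun _ => h.nab fun a _ => mem_cent.2 fun b _ => mul_comm' b a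
  obtain ⟨T, hS, hT⟩ := Syl.exists_ge h.sylS.pg (h.sylS.le.trans h.nS1)
  have S1 : P ⊔ R ≤ T := le_sup_left.trans hS
  obtain ⟨g, hg, gn⟩ : ∃ g ∈ T, g ∉ 𝐍[V ⊔ R] := by
    by_contra hn
    push Not at hn
    refine g2 (hT.le_of_res_le (res_le_of_pow fun y hy => ⟨1, ?_⟩) hn g1)
    rw [pow_one, pow_two]
    by_cases k : y ∈ 𝐍[V ⊔ R]
    · exact mul_mem k k
    · exact h.j2_mul hP hy hy k k
  have hN : 𝐍[T] ≤ 𝐍[P ⊔ R] := fun n hn => mem_norm_of_cj_le (by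
    have k1 := h.j2_e16 hP hT.pg hS hT.le (cj_le_of_norm (h.j2_ES.trans S1) hn)
      ((card_cj _ n).trans h.cardE) (j2_sq (fun _ => h.sqE) n)
    have k2 := h.j2_e16 hP hT.pg hS hT.le (cj_le_of_norm (le_sup_left.trans S1) hn)
      ((card_cj _ n).trans h.cP) (j2_sq hP n)
    rw [cj_sup]
    exact sup_le k2 ((cj_mono n le_sup_right).trans k1))
  obtain ⟨S, rfl⟩ := (Syl.of_norm hT.pg le_top fun Q hQ h1 _ h2 =>
    hT.ge_of_le hQ h1 (h2.trans hN)).exists_sylow_top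
  obtain ⟨r, hr, -, -, r1, -⟩ := h.kR.exists
  obtain ⟨v, hv, -, -, v1, -⟩ := h.kV.exists
  have rD : r ∈ D := (h.DE r (mem_sup_right hr)).2 fun e => r1 (mem_bot.1 (h.disj ▸ ⟨e, hr⟩))
  have two : ¬ IsConj r v := fun e => by
    obtain ⟨c, rfl⟩ := isConj_iff.1 e
    exact (h.DE _ (mem_sup_left hv)).1 (h.cjD r rD c) hv
  have r2 : orderOf r = 2 := orderOf_eq_prime (by rw [pow_two, h.kR.2 r hr]) r1
  have v2 : orderOf v = 2 := orderOf_eq_prime (by rw [pow_two, h.kV.2 v hv]) v1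
  have VS : V ≤ S := h.VP.trans (le_sup_left.trans S1)
  have PS : P ≤ S := le_sup_left.trans S1
  have cV : Nat.card (V.subgroupOf S) = 4 :=
    (Nat.card_congr (subgroupOfEquivOfLe VS).toEquiv).trans h.kV.1
  have hZ : center G = ⊥ := (IsSimpleGroup.eq_bot_or_eq_top_of_normal _ inferInstance).resolve_right
    fun e => hG ⟨⟨fun a b => (mem_center_iff.1 (e ▸ mem_top b) a)⟩⟩
  have hO : Cfsg.oddCore G = ⊥ :=
    (IsSimpleGroup.eq_bot_or_eq_top_of_normal _ inferInstance).resolve_right fun e => by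
      have h1 : Odd (orderOf r) :=
        GT.odd_card_oddCore.of_dvd_nat (orderOf_dvd_natCard _ (e ▸ mem_top r))
      rw [r2] at h1
      exact absurd h1 (by decide)
  have key := S3102.result (X := G) (fun N hN e => by
      rcases IsSimpleGroup.eq_bot_or_eq_top_of_normal N hN with rfl | rfl
      · rw [index_bot] at e
        have := card_le_card_group P
        rw [h.cP] at this
        omega
      · simp at e)
    (fun z hz => hz.ne_one (mem_bot.1 (hZ ▸ hz.mem_center hO))) S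
    (fun e => by
      have := e (P.subgroupOf S)
        ⟨⟨fun a b => Subtype.ext (Subtype.ext (mem_cent.1 (h.ab b.2) _ a.2))⟩⟩
        fun a ha => Subtype.ext (by rw [coe_pow, pow_two]; exact hP _ ha)
      rw [Nat.card_congr (subgroupOfEquivOfLe PS).toEquiv, h.cP] at this
      omega)
    (fun E hE hE' => by
      rw [← card_map_of_injective (S : Subgroup G).subtype_injective]
      refine h.j2_e8 hP hT.pg hS hT.le hg gn (map_subtype_le _) ?_ ?_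
      · nth_rw 1 [← map_subtype_top (S : Subgroup G)]
        exact map_norm_le _ (norm_normal _ _)
      · rintro _ ⟨a, ha, rfl⟩
        rw [← map_mul, ← pow_two, hE'.2 a ha, map_one])
    (V.subgroupOf S) ⟨cV, by
      have : Nontrivial (V.subgroupOf S) := Finite.one_lt_card_iff_nontrivial.1 (by omega)
      refine (Monoid.exponent_eq_prime_iff Nat.prime_two).2 fun a a1 => ?_
      exact orderOf_eq_prime (Subtype.ext (Subtype.ext (by
        rw [coe_pow, coe_pow, pow_two]; exact h.kV.2 _ a.2))) a1⟩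
    ((normal_subgroupOf_iff_le_normalizer VS).2 (hT.le.trans (h.j2_nV hP)))
    (fun a ha b hb a1 b1 => by
      obtain ⟨k, e⟩ := h.kV.trans h.ρV (fun r hr => h.fpf r (h.VP hr)) ha hb
        (fun e => a1 (Subtype.ext e)) (fun e => b1 (Subtype.ext e))
      exact isConj_iff.2 ⟨_, e⟩)
  rcases key with ⟨F, _, _, hF, Q, e⟩ | ⟨Q, e⟩ | e
  · rcases S1743.result (F := F) (by rw [Nat.odd_iff]; omega) S Q e with k | ⟨k, -⟩
    · exact absurd (k r v r2 v2) two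
    · exact absurd (h.sylS.le (mem_sup_left
        ((eq_of_le_of_card_ge S1 (by rw [k, h.cardS1])).ge hg))) gn
  · rcases S1776.result S Q e with ⟨⟨k⟩⟩ | k
    · exact ⟨topEquiv.trans k⟩
    · exact absurd (Pat.one_j3 k r v r2 v2) two
  · exact absurd (ly_one (S3100.result hG S e) ⟨h.kR.2 r hr, r1⟩ ⟨h.kV.2 v hv, v1⟩) two

end Cfsg.Agent.SAn
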